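import Groth.Agent.JacAdic16.GeomReg
import Groth.Agent.CAlg48.PrimeField
import Groth.Agent.RegLoc.Basic
import Groth.Agent.S11581
import Mathlib.RingTheory.Kaehler.Basic
import Mathlib.RingTheory.Smooth.Basic

/-!
# Elements with independent differentials give flat maps into geometrically regular algebras
-/

set_option autoImplicit false
set_option linter.style.haveILetI false

universe u

open IsLocalRing

namespace Groth.Agent.FormalFibre48

/-- Derivations of a local ring of prime characteristic separate a basis of the cotangent space. -/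
theorem exists_dual_derivations (p : ℕ) [Fact p.Prime] (L : Type u) [CommRing L] [IsLocalRing L] [CharP L p]
    {ι : Type u} (b : Module.Basis ι (ResidueField L) (CotangentSpace L)) (t : ι → maximalIdeal L)
    (ht : ∀ i, (maximalIdeal L).toCotangent (t i) = b i) (j : ι) :
    ∃ E : L →+ ResidueField L, (∀ x y, E (x * y) = residue L x * E y + residue L y * E x) ∧
      E (t j : L) = 1 ∧ ∀ i, i ≠ j → E (t i : L) = 0 := by
  classical
  let κ := ResidueField L
  let m := maximalIdeal L
  haveI : CharP κ p := (CharP.charP_iff_prime_eq_zero Fact.out).mpr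
    (by rw [← map_natCast (residue L), CharP.cast_eq_zero, map_zero])
  haveI : Nontrivial (L ⧸ m ^ 2) := Ideal.Quotient.nontrivial_iff.mpr fun h =>
    (maximalIdeal.isMaximal L).ne_top (top_le_iff.mp (h ▸ Ideal.pow_le_self two_ne_zero))
  haveI : CharP (L ⧸ m ^ 2) p := (CharP.charP_iff_prime_eq_zero Fact.out).mpr
    (by rw [← map_natCast (Ideal.Quotient.mk (m ^ 2)), CharP.cast_eq_zero, map_zero])
  letI : Algebra (ZMod p) κ := ZMod.algebra _ p
  letI : Algebra (ZMod p) (L ⧸ m ^ 2) := ZMod.algebra _ p
  haveI : Algebra.FormallySmooth (ZMod p) κ :=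
    CAlg48.PrimeField.formallySmooth_of_surjective (ZMod.ringHom_surjective _) κ
  let π : L ⧸ m ^ 2 →+* κ := Ideal.Quotient.lift (m ^ 2) (residue L) fun x hx =>
    (residue_eq_zero_iff x).mpr (Ideal.pow_le_self two_ne_zero hx)
  let π' : L ⧸ m ^ 2 →ₐ[ZMod p] κ :=
    { π with commutes' := fun r => congrFun (congrArg DFunLike.coe
        (RingHom.ext_zmod (π.comp (algebraMap (ZMod p) (L ⧸ m ^ 2))) (algebraMap (ZMod p) κ))) r }
  have hπs : Function.Surjective π' := fun z => by
    obtain ⟨x, rfl⟩ := residue_surjective z
    exact ⟨Ideal.Quotient.mk _ x, rfl⟩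
  have hker : IsNilpotent (RingHom.ker π'.toRingHom) := ⟨2, by
    rw [Ideal.zero_eq_bot, eq_bot_iff, pow_two (RingHom.ker π'.toRingHom), Ideal.mul_le]
    intro x hx y hy
    obtain ⟨x, rfl⟩ := Ideal.Quotient.mk_surjective x
    obtain ⟨y, rfl⟩ := Ideal.Quotient.mk_surjective y
    rw [Ideal.mem_bot, ← map_mul, Ideal.Quotient.eq_zero_iff_mem, pow_two]
    exact Ideal.mul_mem_mul ((residue_eq_zero_iff x).mp hx) ((residue_eq_zero_iff y).mp hy)⟩
  let σ := Algebra.FormallySmooth.liftOfSurjective (AlgHom.id (ZMod p) κ) π' hπs hker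
  have hσ : ∀ z, π (σ z) = z :=
    fun z => Algebra.FormallySmooth.liftOfSurjective_apply (AlgHom.id (ZMod p) κ) π' hπs hker z
  choose s hs using fun z : κ => Ideal.Quotient.mk_surjective (σ z)
  have hres : ∀ z, residue L (s z) = z := fun z => by
    have h := hσ z
    rw [← hs z] at h
    exact h
  have hmem : ∀ x, x - s (residue L x) ∈ m := fun x => (residue_eq_zero_iff _).mp (by rw [map_sub, hres, sub_self])
  let w : L → CotangentSpace L := fun x => m.toCotangent ⟨_, hmem x⟩
  have hcot : ∀ (x : L) (a : m) (h : (x - s (residue L x)) - (a : L) ∈ m ^ 2), w x = m.toCotangent a :=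
    fun x a h => (Ideal.toCotangent_eq _).mpr h
  have hadd : ∀ x y, w (x + y) = w x + w y := fun x y => by
    simp only [w, ← map_add]
    refine (Ideal.toCotangent_eq _).mpr ?_
    rw [← Ideal.Quotient.eq_zero_iff_mem]
    simp only [Submodule.coe_add, map_sub, map_add, hs]
    ring
  have hmul : ∀ x y, w (x * y) = x • w y + y • w x := fun x y => by
    simp only [w, ← map_smul, ← map_add]
    refine (Ideal.toCotangent_eq _).mpr ?_
    rw [← Ideal.Quotient.eq_zero_iff_mem]
    have h2 : Ideal.Quotient.mk (m ^ 2) ((x - s (residue L x)) * (y - s (residue L y))) = 0 := by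
      rw [Ideal.Quotient.eq_zero_iff_mem, pow_two]
      exact Ideal.mul_mem_mul (hmem x) (hmem y)
    simp only [Submodule.coe_add, Submodule.coe_smul, smul_eq_mul, map_sub, map_add, map_mul, hs] at h2 ⊢
    linear_combination -h2
  have hw : ∀ i, w (t i : L) = b i := fun i => by
    refine (hcot _ (t i) ?_).trans (ht i)
    rw [← Ideal.Quotient.eq_zero_iff_mem, map_sub, map_sub, hs,
      show residue L (t i : L) = 0 from (residue_eq_zero_iff _).mpr (t i).2, map_zero]
    ring
  refine ⟨AddMonoidHom.mk' (fun x => b.repr (w x) j) (fun x y => by rw [hadd, map_add, Finsupp.add_apply]), fun x y => ?_, ?_, fun i hi => ?_⟩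
  · show b.repr (w (x * y)) j = residue L x * b.repr (w y) j + residue L y * b.repr (w x) j
    rw [hmul, ← IsScalarTower.algebraMap_smul κ x, ← IsScalarTower.algebraMap_smul κ y, map_add, map_smul,
      map_smul, Finsupp.add_apply, Finsupp.smul_apply, Finsupp.smul_apply]
    rfl
  · show b.repr (w (t j : L)) j = 1
    rw [hw, b.repr_self, Finsupp.single_eq_same]
  · show b.repr (w (t i : L)) j = 0
    rw [hw, b.repr_self, Finsupp.single_eq_of_ne (Ne.symm hi)]

/-- Derivations of the base extend along an adically formally smooth local algebra. -/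
theorem exists_extend {k A : Type u} [Field k] [CommRing A] [IsLocalRing A] [Algebra k A]
    (hfs : CAlgX.IsAdicFormallySmooth k A (maximalIdeal A)) (δ : k →+ ResidueField A)
    (hδ : ∀ x y, δ (x * y) = algebraMap k (ResidueField A) x * δ y + algebraMap k (ResidueField A) y * δ x) :
    ∃ D : A →+ ResidueField A, (∀ x y, D (x * y) = residue A x * D y + residue A y * D x) ∧
      ∀ c, D (algebraMap k A c) = δ c := by
  let K := ResidueField A
  have hδ1 : δ 1 = 0 := by
    have h := hδ 1 1
    simp only [mul_one, map_one, one_mul] at h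
    linear_combination -h
  let rh : k →+* TrivSqZeroExt K K :=
    { toFun := fun c => TrivSqZeroExt.inl (algebraMap k K c) + TrivSqZeroExt.inr (δ c)
      map_zero' := by simp
      map_one' := by simp [hδ1]
      map_add' := fun a b => TrivSqZeroExt.ext (by simp; try ring) (by simp; try ring)
      map_mul' := fun a b => TrivSqZeroExt.ext (by simp) (by rw [hδ]; simp; ring) }
  let aT : Algebra k (TrivSqZeroExt K K) := rh.toAlgebra
  let fst : TrivSqZeroExt K K →+* K := (TrivSqZeroExt.fstHom K K K).toRingHom
  let J : Ideal (TrivSqZeroExt K K) := RingHom.ker fst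
  have hJ : J ^ 2 = ⊥ := by
    rw [eq_bot_iff, pow_two, Ideal.mul_le]
    intro a ha b hb
    have ha' : a.fst = 0 := ha
    have hb' : b.fst = 0 := hb
    exact TrivSqZeroExt.ext (by simp [ha', hb']) (by simp [ha', hb'])
  let ψ : A →ₐ[k] TrivSqZeroExt K K ⧸ J :=
    { (Ideal.Quotient.mk J).comp ((TrivSqZeroExt.inlHom K K).comp (residue A)) with
      commutes' := fun c => by
        refine Ideal.Quotient.eq.mpr (RingHom.mem_ker.mpr ?_)
        show (TrivSqZeroExt.inl (residue A (algebraMap k A c)) -
          (TrivSqZeroExt.inl (algebraMap k K c) + TrivSqZeroExt.inr (δ c)) : TrivSqZeroExt K K).fst = 0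
        rw [TrivSqZeroExt.fst_sub, TrivSqZeroExt.fst_add, TrivSqZeroExt.fst_inl, TrivSqZeroExt.fst_inl,
          TrivSqZeroExt.fst_inr, add_zero]
        exact sub_self _ }
  obtain ⟨χ, hχ⟩ := hfs (TrivSqZeroExt K K) J hJ ψ ⟨1, fun x hx => by
    rw [pow_one] at hx
    show Ideal.Quotient.mk J (TrivSqZeroExt.inl (residue A x)) = 0
    rw [(residue_eq_zero_iff x).mpr hx, TrivSqZeroExt.inl_zero, map_zero]⟩
  have hfst : ∀ a : A, (χ a).fst = residue A a := fun a => by
    have h1 : Ideal.Quotient.mk J (χ a) = Ideal.Quotient.mk J (TrivSqZeroExt.inl (residue A a)) :=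
      DFunLike.congr_fun hχ a
    have h2 : (χ a - TrivSqZeroExt.inl (residue A a) : TrivSqZeroExt K K).fst = 0 := Ideal.Quotient.eq.mp h1
    rwa [TrivSqZeroExt.fst_sub, sub_eq_zero, TrivSqZeroExt.fst_inl] at h2
  refine ⟨AddMonoidHom.mk' (fun a => (χ a).snd) (fun a b => by simp), fun x y => ?_, fun c => ?_⟩
  · show (χ (x * y)).snd = residue A x * (χ y).snd + residue A y * (χ x).snd
    rw [map_mul, TrivSqZeroExt.snd_mul, hfst, hfst]
    simp [mul_comm]
  · show (χ (algebraMap k A c)).snd = δ c
    rw [χ.commutes]
    show (TrivSqZeroExt.inl (algebraMap k K c) + TrivSqZeroExt.inr (δ c) : TrivSqZeroExt K K).snd = δ c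
    simp

/-- A local map out of a regular local ring carrying a basis of the cotangent space to independent classes is
flat with regular closed fibre. -/
theorem flat_of_cotangent_indep {L A : Type u} [CommRing L] [IsRegularLocalRing L] [CommRing A]
    [IsRegularLocalRing A] [Algebra L A] [IsLocalHom (algebraMap L A)] {c : ℕ} (hc : ringKrullDim L = c)
    (t : Fin c → L) (hspan : Ideal.span (Set.range t) = maximalIdeal L)
    (x : Fin c → maximalIdeal A) (hx : ∀ i, (x i : A) = algebraMap L A (t i))
    (hind : LinearIndependent (ResidueField A) fun i => (maximalIdeal A).toCotangent (x i)) :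
    Module.Flat L A ∧ IsRegularLocalRing (A ⧸ (maximalIdeal L).map (algebraMap L A)) := by
  classical
  obtain ⟨n, hn, -⟩ := RegLoc.exists_natCast_eq_ringKrullDim A
  have hfr : Module.finrank (ResidueField A) (CotangentSpace A) = n := by
    have h := (IsRegularLocalRing.iff_finrank_cotangentSpace A).mp ‹_›
    rw [hn] at h
    exact_mod_cast h
  have hI : (maximalIdeal L).map (algebraMap L A) = Ideal.span (Set.range fun i => (x i : A)) := by
    rw [← hspan, Ideal.map_span, ← Set.range_comp]
    exact congrArg Ideal.span (congrArg Set.range (funext fun i => (hx i).symm))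
  let U := Submodule.span (ResidueField A) (Set.range fun i => (maximalIdeal A).toCotangent (x i))
  have hU : Module.finrank (ResidueField A) U = c := by rw [finrank_span_eq_card hind, Fintype.card_fin]
  obtain ⟨W, hW⟩ := U.exists_isCompl
  let bW := Module.finBasis (ResidueField A) W
  choose z hz using fun i => (maximalIdeal A).toCotangent_surjective (bW i : CotangentSpace A)
  have hdim : c + Module.finrank (ResidueField A) W = n := by
    have h := Submodule.finrank_add_eq_of_isCompl hW
    rw [hU, hfr] at h
    exact h
  let J : Ideal A := Ideal.span (Set.range fun i => (z i : A))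
  have hsup : (maximalIdeal L).map (algebraMap L A) ⊔ J = maximalIdeal A := by
    rw [hI]
    refine RegLoc.eq_maximalIdeal_of_le_sup_sq (sup_le (Ideal.span_le.mpr ?_) (Ideal.span_le.mpr ?_)) fun a ha => ?_
    · rintro _ ⟨i, rfl⟩; exact (x i).2
    · rintro _ ⟨i, rfl⟩; exact (z i).2
    · let T : Submodule A (maximalIdeal A) := Submodule.span A (Set.range x ∪ Set.range z)
      have htop : T.map (maximalIdeal A).toCotangent = ⊤ := by
        rw [Submodule.map_span, Set.image_union, ← Set.range_comp, ← Set.range_comp, eq_top_iff]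
        intro v _
        have hv : v ∈ U ⊔ W := by rw [hW.sup_eq_top]; trivial
        obtain ⟨v₁, hv₁, v₂, hv₂, rfl⟩ := Submodule.mem_sup.mp hv
        have hle : ∀ (S : Set (CotangentSpace A)), ∀ q ∈ Submodule.span (ResidueField A) S, q ∈ Submodule.span A S := by
          intro S q hq
          induction hq using Submodule.span_induction with
          | mem q hq => exact Submodule.subset_span hq
          | zero => exact zero_mem _
          | add q q' _ _ h h' => exact add_mem h h'
          | smul r q _ h =>
            obtain ⟨r, rfl⟩ := residue_surjective r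
            have := Submodule.smul_mem _ r h
            rwa [← IsScalarTower.algebraMap_smul (ResidueField A) r q] at this
        refine add_mem (Submodule.span_mono Set.subset_union_left (hle _ _ hv₁))
          (Submodule.span_mono Set.subset_union_right (hle _ _ ?_))
        have h2 : (⟨v₂, hv₂⟩ : W) ∈ Submodule.span (ResidueField A) (Set.range bW) := by rw [bW.span_eq]; trivial
        have h3 := Submodule.apply_mem_span_image_of_mem_span W.subtype h2
        rw [← Set.range_comp] at h3
        exact (congrArg Set.range (funext hz : (fun i => (maximalIdeal A).toCotangent (z i)) = _)) ▸ h3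
      have hmem : (maximalIdeal A).toCotangent ⟨a, ha⟩ ∈ T.map (maximalIdeal A).toCotangent := by
        rw [htop]; trivial
      obtain ⟨q, hq, hqa⟩ := Submodule.mem_map.mp hmem
      have h4 := (Ideal.toCotangent_eq _).mp hqa
      rw [show a = (q : A) - ((q : A) - a) by ring]
      refine Ideal.sub_mem _ (Ideal.mem_sup_left ?_) (Ideal.mem_sup_right h4)
      have h5 := Submodule.apply_mem_span_image_of_mem_span (maximalIdeal A).subtype hq
      rw [Set.image_union, ← Set.range_comp, ← Set.range_comp] at h5
      rw [← Ideal.span_union]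
      exact h5
  have hIc : ((maximalIdeal L).map (algebraMap L A)).spanFinrank ≤ c := by
    rw [hI, Ideal.span, ← Set.image_univ]
    refine (Submodule.spanFinrank_span_le_ncard_of_finite (Set.finite_univ.image _)).trans ?_
    exact (Set.ncard_image_le Set.finite_univ).trans (by rw [Set.ncard_univ, Nat.card_eq_fintype_card, Fintype.card_fin])
  have hJb : J.spanFinrank ≤ Module.finrank (ResidueField A) W := by
    simp only [J, Ideal.span, ← Set.image_univ]
    refine (Submodule.spanFinrank_span_le_ncard_of_finite (Set.finite_univ.image _)).trans ?_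
    exact (Set.ncard_image_le Set.finite_univ).trans (by rw [Set.ncard_univ, Nat.card_eq_fintype_card, Fintype.card_fin])
  obtain ⟨hreg, e, he, hec, -⟩ := RegLoc.isRegularLocalRing_quotient_of_sup_eq hn hsup hIc hJb hdim.le
  refine ⟨?_, hreg⟩
  haveI := hreg
  refine S11581.flat_of_regular ?_
  rw [hn, hc, he, ← hec]
  push_cast
  ring

end Groth.Agent.FormalFibre48
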