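import Groth.Agent.Hens.GRingFinite
import Groth.Agent.GeomFieldLib.HomBC

/-!
# One formal fibre of a localization of a finite algebra
-/

set_option autoImplicit false
set_option linter.style.haveILetI false

universe u

open IsLocalRing TensorProduct

namespace Groth.Agent.FormalFibre48

open Groth.Agent.Hens

/-- Geometric regularity of a fibre passes to the fibre of a base change. -/
theorem geomRegular_fiber_tensor (A B A' : Type u) [CommRing A] [CommRing B] [CommRing A'] [Algebra A B]
    [Algebra A A'] [IsNoetherianRing B] [IsNoetherianRing (A' ⊗[A] B)] (p' : Ideal A') [p'.IsPrime]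
    (h : CAlg.IsGeometricallyRegular (p'.comap (algebraMap A A')).ResidueField
      ((p'.comap (algebraMap A A')).Fiber B)) :
    CAlg.IsGeometricallyRegular p'.ResidueField (p'.Fiber (A' ⊗[A] B)) := by
  haveI := EGA4Lib.forall_isCohenMacaulayRing_fiber_iff.isNoetherianRing_fiber (B := B) A (p'.comap (algebraMap A A'))
  haveI hN : IsNoetherianRing (p'.Fiber (A' ⊗[A] B)) :=
    EGA4Lib.forall_isCohenMacaulayRing_fiber_iff.isNoetherianRing_fiber A' p'
  letI := EGA4Lib.residueAlgebra (A := A) p'
  obtain ⟨f⟩ := EGA4Lib.nonempty_fiber_baseChange (A := A) (B := B) (AlgEquiv.refl (R := A') (A₁ := A' ⊗[A] B)) p'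
  haveI : IsNoetherianRing (p'.ResidueField ⊗[(p'.comap (algebraMap A A')).ResidueField]
      ((p'.comap (algebraMap A A')).Fiber B)) := isNoetherianRing_of_ringEquiv _ f.toRingEquiv
  exact EGA4Lib.isGeometricallyRegular_congr p'.ResidueField _ f.symm
    (GeomFieldLib.isGeometricallyRegular_extend (p'.comap (algebraMap A A')).ResidueField p'.ResidueField _ h)

/-- Geometric regularity of a fibre passes to localizations. -/
theorem geomRegular_fiber_localization {B T : Type u} [CommRing B] [CommRing T] [Algebra B T]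
    (C : Type u) [CommRing C] [Algebra T C] [Algebra B C] [IsScalarTower B T C]
    (N : Submonoid T) [IsLocalization N C] (q : Ideal B) [q.IsPrime]
    (h : CAlg.IsGeometricallyRegular q.ResidueField (q.Fiber T)) :
    CAlg.IsGeometricallyRegular q.ResidueField (q.Fiber C) := by
  intro K' _ _ hfin
  letI : Algebra B K' := ((algebraMap q.ResidueField K').comp (algebraMap B q.ResidueField)).toAlgebra
  haveI : IsScalarTower B q.ResidueField K' := IsScalarTower.of_algebraMap_eq' rfl
  haveI := h K' hfin
  haveI : IsRegularRing (K' ⊗[B] T) := IsRegularRing.of_ringEquiv (R := K' ⊗[q.ResidueField] (q.Fiber T))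
    (Algebra.TensorProduct.cancelBaseChange B q.ResidueField K' K' T).toRingEquiv
  haveI : IsRegularRing (T ⊗[B] K') := IsRegularRing.of_ringEquiv (Algebra.TensorProduct.comm B K' T).toRingEquiv
  letI : Algebra C ((T ⊗[B] K') ⊗[T] C) := Algebra.TensorProduct.rightAlgebra
  haveI : IsLocalization (Algebra.algebraMapSubmonoid (T ⊗[B] K') N) ((T ⊗[B] K') ⊗[T] C) :=
    (Algebra.isLocalization_iff_isPushout N C).mpr inferInstance
  haveI : IsRegularRing ((T ⊗[B] K') ⊗[T] C) :=
    GeomFieldLib.isRegularRing_of_isLocalization (R := T ⊗[B] K') (Algebra.algebraMapSubmonoid (T ⊗[B] K') N)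
  let e₁ := (Algebra.TensorProduct.comm T (T ⊗[B] K') C).toRingEquiv.trans
    (Algebra.TensorProduct.cancelBaseChange B T C C K').toRingEquiv
  let e₂ := (Algebra.TensorProduct.comm B C K').toRingEquiv.trans
    (Algebra.TensorProduct.cancelBaseChange B q.ResidueField K' K' C).symm.toRingEquiv
  exact IsRegularRing.of_ringEquiv (e₁.trans e₂)

section

variable {R S : Type u} [CommRing R] [IsLocalRing R] [IsNoetherianRing R] [CommRing S]
  [Algebra R S] [Module.Finite R S]

/-- A complete flat local `L`-algebra in which `L` is dense is the completion. -/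
theorem completion_equiv_of_dense (L : Type u) [CommRing L] [IsLocalRing L] [IsNoetherianRing L]
    [Algebra S L] (C : Type u) [CommRing C] [IsLocalRing C] [IsNoetherianRing C]
    [IsAdicComplete (maximalIdeal C) C] [Algebra L C] [Algebra S C] [IsScalarTower S L C]
    [Algebra (S ⊗[R] AdicCompletion (maximalIdeal R) R) C]
    [IsScalarTower S (S ⊗[R] AdicCompletion (maximalIdeal R) R) C]
    (N : Submonoid (S ⊗[R] AdicCompletion (maximalIdeal R) R)) [IsLocalization N C]
    [hloc : IsLocalHom (algebraMap L C)]
    (hRL : (maximalIdeal R).map ((algebraMap S L).comp (algebraMap R S)) ≤ maximalIdeal L)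
    [Module.Flat L C] :
    Nonempty (AdicCompletion (maximalIdeal L) L ≃ₐ[L] C) := by
  set Rc := AdicCompletion (maximalIdeal R) R
  haveI : Module.FaithfullyFlat L C := Module.FaithfullyFlat.of_flat_of_isLocalHom
  -- density
  have hdense : ∀ (n : ℕ) (c : C),
      ∃ a, c - algebraMap L C a ∈ (maximalIdeal L ^ n).map (algebraMap L C) := by
    intro n
    have hRC : ∀ r ∈ maximalIdeal R ^ n,
        algebraMap S C (algebraMap R S r) ∈ (maximalIdeal L ^ n).map (algebraMap L C) := by
      intro r hr
      rw [IsScalarTower.algebraMap_apply S L C]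
      refine Ideal.mem_map_of_mem _ ?_
      have := Ideal.mem_map_of_mem ((algebraMap S L).comp (algebraMap R S)) hr
      rw [Ideal.map_pow] at this
      exact Ideal.pow_right_mono hRL n this
    have hT : ∀ t : S ⊗[R] Rc, ∃ b : S, algebraMap (S ⊗[R] Rc) C t - algebraMap S C b ∈
        (maximalIdeal L ^ n).map (algebraMap L C) := by
      intro t
      induction t with
      | zero => exact ⟨0, by simp⟩
      | add x y hx hy =>
        obtain ⟨a, ha⟩ := hx
        obtain ⟨b, hb⟩ := hy
        exact ⟨a + b, by rw [map_add, map_add, add_sub_add_comm]; exact Ideal.add_mem _ ha hb⟩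
      | tmul s c =>
        obtain ⟨a, ha⟩ := Submodule.mkQ_surjective (maximalIdeal R ^ n • ⊤ : Submodule R R) (c.val n)
        have hca : c - algebraMap R Rc a ∈ (maximalIdeal R ^ n).map (algebraMap R Rc) := by
          rw [← Submodule.restrictScalars_mem R, ← Ideal.smul_top_eq_map,
            AdicCompletion.pow_smul_top_eq_ker_eval (IsNoetherian.noetherian _), LinearMap.mem_ker,
            map_sub, sub_eq_zero]
          exact ha.symm
        refine ⟨s * algebraMap R S a, ?_⟩
        have hle : (maximalIdeal R ^ n).map (algebraMap R Rc) ≤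
            ((maximalIdeal L ^ n).map (algebraMap L C)).comap
              ((algebraMap (S ⊗[R] Rc) C).comp
                (Algebra.TensorProduct.includeRight : Rc →ₐ[R] S ⊗[R] Rc).toRingHom) := by
          rw [Ideal.map_le_iff_le_comap]
          intro r hr
          show algebraMap (S ⊗[R] Rc) C ((1 : S) ⊗ₜ[R] algebraMap R Rc r) ∈
            (maximalIdeal L ^ n).map (algebraMap L C)
          have h2 : (1 : S) ⊗ₜ[R] algebraMap R Rc r = algebraMap S (S ⊗[R] Rc) (algebraMap R S r) := by
            show _ = algebraMap R S r ⊗ₜ[R] (1 : Rc)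
            rw [Algebra.algebraMap_eq_smul_one, Algebra.algebraMap_eq_smul_one, TensorProduct.smul_tmul]
          rw [h2, ← IsScalarTower.algebraMap_apply]
          exact hRC r hr
        have h3 := Ideal.mul_mem_left ((maximalIdeal L ^ n).map (algebraMap L C))
          (algebraMap (S ⊗[R] Rc) C (s ⊗ₜ 1)) (Ideal.mem_comap.1 (hle hca))
        have h4 : algebraMap (S ⊗[R] Rc) C (s ⊗ₜ 1) * algebraMap (S ⊗[R] Rc) C
            ((1 : S) ⊗ₜ[R] (c - algebraMap R Rc a)) =
            algebraMap (S ⊗[R] Rc) C (s ⊗ₜ c) - algebraMap S C (s * algebraMap R S a) := by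
          rw [← map_mul, Algebra.TensorProduct.tmul_mul_tmul, mul_one, one_mul, TensorProduct.tmul_sub,
            map_sub, IsScalarTower.algebraMap_apply S (S ⊗[R] Rc) C]
          congr 2
          show _ = (s * algebraMap R S a) ⊗ₜ[R] (1 : Rc)
          rw [Algebra.algebraMap_eq_smul_one, Algebra.algebraMap_eq_smul_one, TensorProduct.tmul_smul,
            mul_smul_comm, mul_one, TensorProduct.smul_tmul']
        exact h4 ▸ h3
    intro c
    obtain ⟨x, y, rfl⟩ := IsLocalization.exists_mk'_eq N c
    obtain ⟨bx, hbx⟩ := hT x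
    obtain ⟨by', hby⟩ := hT (y : S ⊗[R] Rc)
    have hy : IsUnit (algebraMap (S ⊗[R] Rc) C (y : S ⊗[R] Rc)) :=
      IsLocalization.map_units (M := N) C y
    by_cases hn : n = 0
    · exact ⟨0, by simp [hn, Ideal.map_top]⟩
    have hu : IsUnit (algebraMap S L by') := by
      refine (hloc.map_nonunit _) ?_
      rw [← IsScalarTower.algebraMap_apply]
      by_contra hnu
      have hJ : (maximalIdeal L ^ n).map (algebraMap L C) ≤ maximalIdeal C :=
        (Ideal.map_mono (Ideal.pow_le_self hn)).trans (IsLocalRing.map_maximalIdeal_le _)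
      have h5 : algebraMap (S ⊗[R] Rc) C (y : S ⊗[R] Rc) ∈ maximalIdeal C := by
        have := Ideal.add_mem _ (hJ hby) (show algebraMap S C by' ∈ maximalIdeal C from hnu)
        rwa [sub_add_cancel] at this
      exact h5 hy
    refine ⟨algebraMap S L bx * ↑hu.unit⁻¹, ?_⟩
    have h6 : (IsLocalization.mk' C x y - algebraMap L C (algebraMap S L bx * ↑hu.unit⁻¹)) *
        algebraMap (S ⊗[R] Rc) C (y : S ⊗[R] Rc) ∈ (maximalIdeal L ^ n).map (algebraMap L C) := by
      rw [sub_mul, IsLocalization.mk'_spec, map_mul, ← IsScalarTower.algebraMap_apply]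
      have h7 : algebraMap (S ⊗[R] Rc) C x -
          algebraMap S C bx * algebraMap L C ↑hu.unit⁻¹ * algebraMap (S ⊗[R] Rc) C (y : S ⊗[R] Rc) =
          (algebraMap (S ⊗[R] Rc) C x - algebraMap S C bx) -
            algebraMap S C bx * algebraMap L C ↑hu.unit⁻¹ *
              (algebraMap (S ⊗[R] Rc) C (y : S ⊗[R] Rc) - algebraMap S C by') := by
        have h8 : algebraMap L C ↑hu.unit⁻¹ * algebraMap S C by' = 1 := by
          rw [IsScalarTower.algebraMap_apply S L C, ← map_mul, hu.val_inv_mul, map_one]
        linear_combination (-algebraMap S C bx) * h8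
      rw [h7]
      exact Ideal.sub_mem _ hbx (Ideal.mul_mem_left _ _ hby)
    have h9 := Ideal.mul_mem_right (↑hy.unit⁻¹ : C) _ h6
    rwa [mul_assoc, hy.mul_val_inv, mul_one] at h9
  haveI : IsAdicComplete ((maximalIdeal L).map (algebraMap L C)) C := by
    obtain ⟨d, hd⟩ : ∃ d, maximalIdeal C ^ d ≤ (maximalIdeal L).map (algebraMap L C) := by
      refine ⟨1, ?_⟩
      rw [pow_one]
      intro x hx
      obtain ⟨a, ha⟩ := hdense 1 x
      rw [pow_one] at ha
      have hle := IsLocalRing.map_maximalIdeal_le (algebraMap L C)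
      have ham : a ∈ maximalIdeal L := by
        intro hua
        have h := Ideal.sub_mem _ hx (hle ha)
        rw [sub_sub_cancel] at h
        exact h (hua.map _)
      have h := Ideal.add_mem _ ha (Ideal.mem_map_of_mem _ ham)
      rwa [sub_add_cancel] at h
    exact CAlg48.AdicPow.isAdicComplete_of_pow_le (I := maximalIdeal C) (c := d + 1) (d := 1)
      d.succ_pos Nat.one_pos ((Ideal.pow_le_pow_right d.le_succ).trans hd)
      (by simpa using IsLocalRing.map_maximalIdeal_le (algebraMap L C))
  exact Groth.Agent.Hensel.nonempty_completion_equiv (maximalIdeal L) C hdense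
    fun n => (Ideal.comap_map_eq_self_of_faithfullyFlat _).le


/-- Geometric regularity of one formal fibre passes to the localizations of finite algebras. -/
theorem geomRegular_formalFibre_of_finite
    (Q : Ideal S) [Q.IsMaximal]
    (L : Type u) [CommRing L] [IsLocalRing L] [IsNoetherianRing L] [Algebra S L]
    [IsLocalization.AtPrime L Q] [Algebra R L] [IsScalarTower R S L] (Q' : Ideal L) [Q'.IsPrime]
    (hg : CAlg.IsGeometricallyRegular ((Q'.comap (algebraMap S L)).comap (algebraMap R S)).ResidueField
      (((Q'.comap (algebraMap S L)).comap (algebraMap R S)).Fiber (AdicCompletion (maximalIdeal R) R))) :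
    CAlg.IsGeometricallyRegular Q'.ResidueField (Q'.Fiber (AdicCompletion (maximalIdeal L) L)) := by
  set Rc := AdicCompletion (maximalIdeal R) R
  haveI : IsNoetherianRing Rc :=
    RegLoc.AdicNoeth.isNoetherianRing_adicCompletion _ (IsNoetherian.noetherian _)
  haveI : IsNoetherianRing S := IsNoetherianRing.of_finite R S
  haveI : Module.FaithfullyFlat R Rc := by
    haveI : Module.Flat R Rc := AdicCompletion.flat_of_isNoetherian _
    exact Module.FaithfullyFlat.of_flat_of_isLocalHom
  letI : Algebra Rc (S ⊗[R] Rc) := Algebra.TensorProduct.rightAlgebra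
  haveI : Module.Finite Rc (S ⊗[R] Rc) := by
    refine Module.Finite.of_surjective
      ({ toFun := Algebra.TensorProduct.comm R Rc S
         map_add' := map_add _
         map_smul' := fun c x => by
          induction x with
          | zero => simp
          | add x y hx hy => rw [smul_add, map_add, map_add, hx, hy, smul_add]
          | tmul a b =>
            rw [TensorProduct.smul_tmul', RingHom.id_apply, Algebra.smul_def]
            show b ⊗ₜ[R] (c * a) = ((1 : S) ⊗ₜ[R] c) * (b ⊗ₜ[R] a)
            rw [Algebra.TensorProduct.tmul_mul_tmul, one_mul] } : Rc ⊗[R] S →ₗ[Rc] S ⊗[R] Rc) (AlgEquiv.surjective _)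
  haveI : IsNoetherianRing (S ⊗[R] Rc) := IsNoetherianRing.of_finite Rc _
  -- the prime over `Q`
  haveI : Module.FaithfullyFlat S (S ⊗[R] Rc) := inferInstance
  obtain ⟨⟨M, hM⟩, hMQ⟩ :=
    PrimeSpectrum.comap_surjective_of_faithfullyFlat (A := S) (B := S ⊗[R] Rc) ⟨Q, inferInstance⟩
  have hMQ' : M.comap (algebraMap S (S ⊗[R] Rc)) = Q := congrArg PrimeSpectrum.asIdeal hMQ
  haveI := hM
  haveI hQm : (Q.comap (algebraMap R S)).IsMaximal :=
    Ideal.isMaximal_comap_of_isIntegral_of_isMaximal Q
  haveI : M.IsMaximal := by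
    refine Ideal.isMaximal_of_isIntegral_of_isMaximal_comap (R := Rc) M ?_
    have hle : maximalIdeal Rc ≤ M.comap (algebraMap Rc (S ⊗[R] Rc)) := by
      rw [AdicCompletion.maximalIdeal_eq_map, Ideal.map_le_iff_le_comap, Ideal.comap_comap]
      intro r hr
      show (algebraMap Rc (S ⊗[R] Rc)) (algebraMap R Rc r) ∈ M
      have h1 : algebraMap R S r ∈ Q := (eq_maximalIdeal hQm).ge hr
      rw [← hMQ'] at h1
      have h2 : (algebraMap Rc (S ⊗[R] Rc)) (algebraMap R Rc r) =
          algebraMap S (S ⊗[R] Rc) (algebraMap R S r) := by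
        show (1 : S) ⊗ₜ[R] algebraMap R Rc r = algebraMap R S r ⊗ₜ[R] (1 : Rc)
        rw [Algebra.algebraMap_eq_smul_one, Algebra.algebraMap_eq_smul_one, TensorProduct.smul_tmul]
      rw [h2]
      exact h1
    rw [← (maximalIdeal.isMaximal Rc).eq_of_le (Ideal.IsPrime.ne_top') hle]
    infer_instance
  obtain ⟨-, hcomplete⟩ := finite_and_isAdicComplete_localization (R₀ := Rc) M
  set C := Localization.AtPrime M
  -- the algebra structure over `L`
  letI algQ : Algebra (Localization.AtPrime (M.comap (algebraMap S (S ⊗[R] Rc)))) C :=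
    (Localization.localRingHom (M.comap (algebraMap S (S ⊗[R] Rc))) M
      (algebraMap S (S ⊗[R] Rc)) rfl).toAlgebra
  have hflat₀ : Module.Flat S C := Module.Flat.trans S (S ⊗[R] Rc) C
  haveI : IsLocalization.AtPrime L (M.comap (algebraMap S (S ⊗[R] Rc))) := by
    convert ‹IsLocalization.AtPrime L Q›
  let g := IsLocalization.algEquiv (M.comap (algebraMap S (S ⊗[R] Rc))).primeCompl
    (Localization.AtPrime (M.comap (algebraMap S (S ⊗[R] Rc)))) L
  letI : Algebra (Localization.AtPrime (M.comap (algebraMap S (S ⊗[R] Rc)))) L :=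
    g.toAlgHom.toRingHom.toAlgebra
  letI algL : Algebra L C :=
    ((algebraMap (Localization.AtPrime (M.comap (algebraMap S (S ⊗[R] Rc)))) C).comp
      g.symm.toAlgHom.toRingHom).toAlgebra
  haveI : IsScalarTower (Localization.AtPrime (M.comap (algebraMap S (S ⊗[R] Rc)))) L C :=
    IsScalarTower.of_algebraMap_eq fun x => by
      show _ = algebraMap _ C (g.symm (g x))
      rw [g.symm_apply_apply]
  haveI : IsScalarTower S L C := IsScalarTower.of_algebraMap_eq fun x => by
    show _ = algebraMap _ C (g.symm (algebraMap S L x))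
    rw [g.symm.commutes]
    show _ = Localization.localRingHom _ _ _ _ (algebraMap S _ x)
    rw [Localization.localRingHom_to_map, ← IsScalarTower.algebraMap_apply]
  haveI : Module.Flat L C := Module.Flat.of_linearEquiv
    (IsLocalization.algebraLid Q.primeCompl L C).symm.toLinearEquiv
  haveI hloc : IsLocalHom (algebraMap L C) := by
    refine ⟨fun x hx => ?_⟩
    have h1 : IsUnit (g.symm x) :=
      (Localization.isLocalHom_localRingHom (M.comap (algebraMap S (S ⊗[R] Rc))) M
        (algebraMap S (S ⊗[R] Rc)) rfl).map_nonunit _ hx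
    simpa using h1.map g
  haveI : IsNoetherianRing C := IsLocalization.isNoetherianRing M.primeCompl C inferInstance
  have hRL : (maximalIdeal R).map ((algebraMap S L).comp (algebraMap R S)) ≤ maximalIdeal L := by
    rw [← Ideal.map_map, ← IsLocalization.AtPrime.map_eq_maximalIdeal Q L]
    refine Ideal.map_mono (Ideal.map_le_iff_le_comap.2 (eq_maximalIdeal hQm).ge)
  obtain ⟨eC⟩ := completion_equiv_of_dense (R := R) L C M.primeCompl hRL
  refine EGA4Lib.isGeometricallyRegular_congr Q'.ResidueField _
    (Algebra.TensorProduct.congr (AlgEquiv.refl (R := Q'.ResidueField) (A₁ := Q'.ResidueField)) eC.symm) ?_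
  refine EGA4Lib.isGeometricallyRegular_fiber (A := S) (A' := L) (B := C) (B' := C) (EGA4Lib.isQuotLike_of_isLocalization Q.primeCompl)
    (IsLocalization.algebraLid Q.primeCompl L C).symm Q' ?_
  exact geomRegular_fiber_localization (T := S ⊗[R] Rc) C M.primeCompl _
    (geomRegular_fiber_tensor R Rc S _ hg)




end

end Groth.Agent.FormalFibre48
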