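import Groth.Agent.FormalFibre48.Finite

/-!
# One formal fibre of a localization of a finite algebra over any Noetherian ring
-/

set_option autoImplicit false
set_option linter.style.haveILetI false

universe u

open IsLocalRing TensorProduct

namespace Groth.Agent.FormalFibre48

/-- A prime may be replaced by an equal one. -/
theorem geomRegular_congr_prime {A T : Type u} [CommRing A] [CommRing T] [Algebra A T] {p q : Ideal A} [p.IsPrime] [q.IsPrime]
    (h : p = q) (hp : CAlg.IsGeometricallyRegular p.ResidueField (p.Fiber T)) :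
    CAlg.IsGeometricallyRegular q.ResidueField (q.Fiber T) := by
  subst h; exact hp

/-- One formal fibre at a localization of a finite algebra. -/
theorem geomRegular_formalFibre {A B : Type u} [CommRing A] [CommRing B] [IsNoetherianRing A] [Algebra A B]
    [Module.Finite A B] (P : Ideal B) [P.IsPrime] (p : Ideal A) [p.IsPrime] (hp : p = P.under A)
    (L : Type u) [CommRing L] [IsLocalRing L] [Algebra B L] [IsLocalization.AtPrime L P] [Algebra A L]
    [IsScalarTower A B L] (Q' : Ideal L) [Q'.IsPrime] (Q₀ : Ideal (Localization.AtPrime p)) [Q₀.IsPrime]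
    (hQ : Q₀.comap (algebraMap A (Localization.AtPrime p)) = Q'.comap (algebraMap A L))
    (h : CAlg.IsGeometricallyRegular Q₀.ResidueField (EGA4.formalFibre (Localization.AtPrime p) Q₀)) :
    CAlg.IsGeometricallyRegular Q'.ResidueField (EGA4.formalFibre L Q') := by
  subst hp
  haveI : IsNoetherianRing B := IsNoetherianRing.of_finite A B
  let p := P.under A
  let Ap := Localization.AtPrime p
  let Bp := Localization (Algebra.algebraMapSubmonoid B p.primeCompl)
  letI : Algebra Ap Bp := localizationAlgebra p.primeCompl B
  haveI : IsScalarTower A Ap Bp :=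
    IsScalarTower.of_algebraMap_eq' (IsLocalization.map_comp (M := p.primeCompl) _).symm
  haveI : Module.Finite Ap Bp := Module.Finite.of_isLocalization A B p.primeCompl
  haveI : IsNoetherianRing Ap := IsLocalization.isNoetherianRing p.primeCompl _ inferInstance
  have hdisj : Disjoint (Algebra.algebraMapSubmonoid B p.primeCompl : Set B) (P : Set B) := by
    rw [Set.disjoint_left]
    rintro _ ⟨a, ha, rfl⟩ hP'
    exact ha hP'
  let Q := P.map (algebraMap B Bp)
  haveI : Q.IsPrime := IsLocalization.isPrime_of_isPrime_disjoint _ Bp P ‹P.IsPrime› hdisj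
  have hQP : Q.comap (algebraMap B Bp) = P :=
    IsLocalization.under_map_of_isPrime_disjoint _ Bp ‹P.IsPrime› hdisj
  haveI : Q.IsMaximal := by
    refine Ideal.isMaximal_of_isIntegral_of_isMaximal_comap (R := Ap) Q ?_
    have h1 : maximalIdeal Ap ≤ Q.comap (algebraMap Ap Bp) := by
      rw [← Localization.AtPrime.map_eq_maximalIdeal, Ideal.map_le_iff_le_comap, Ideal.comap_comap,
        ← IsScalarTower.algebraMap_eq, IsScalarTower.algebraMap_eq A B Bp, ← Ideal.comap_comap, hQP]
    rw [← (maximalIdeal.isMaximal Ap).eq_of_le Ideal.IsPrime.ne_top' h1]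
    infer_instance
  letI : Algebra Bp (L) :=
    (IsLocalization.lift (M := Algebra.algebraMapSubmonoid B p.primeCompl) (S := Bp)
      (g := algebraMap B (L)) fun y =>
        IsLocalization.map_units (M := P.primeCompl) _
          (⟨y.1, fun h => Set.disjoint_left.1 hdisj y.2 h⟩ : P.primeCompl)).toAlgebra
  haveI : IsScalarTower B Bp (L) :=
    IsScalarTower.of_algebraMap_eq fun x => (IsLocalization.lift_eq _ x).symm
  have hle : Algebra.algebraMapSubmonoid B p.primeCompl ≤ P.primeCompl :=
    fun y hy h => Set.disjoint_left.1 hdisj hy h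
  haveI : IsLocalization.AtPrime (L) Q := by
    haveI := IsLocalization.isLocalization_of_submonoid_le Bp (L) _ _ hle
    refine IsLocalization.of_le (P.primeCompl.map (algebraMap B Bp)) Q.primeCompl ?_ ?_
    · rintro _ ⟨y, hy, rfl⟩ h
      exact hy (show y ∈ P from hQP ▸ h)
    · intro r hr
      obtain ⟨b, m, rfl⟩ := IsLocalization.exists_mk'_eq (Algebra.algebraMapSubmonoid B p.primeCompl) r
      have hb : b ∈ P.primeCompl := fun h => hr (by
        rw [IsLocalization.mk'_eq_mul_mk'_one]
        exact Ideal.mul_mem_right _ _ (Ideal.mem_map_of_mem _ h))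
      have := congrArg (algebraMap Bp (L))
        (IsLocalization.mk'_spec Bp b m)
      rw [map_mul, ← IsScalarTower.algebraMap_apply, ← IsScalarTower.algebraMap_apply] at this
      exact isUnit_of_mul_isUnit_left (this ▸ IsLocalization.map_units (M := P.primeCompl) _ ⟨b, hb⟩)
  haveI : IsNoetherianRing L :=
    IsLocalization.isNoetherianRing P.primeCompl _ inferInstance
  letI : Algebra Ap L := ((algebraMap Bp L).comp (algebraMap Ap Bp)).toAlgebra
  haveI : IsScalarTower Ap Bp L := IsScalarTower.of_algebraMap_eq' rfl
  refine geomRegular_formalFibre_of_finite (R := Ap) Q L Q' (geomRegular_congr_prime ?_ h)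
  rw [← IsLocalization.map_comap p.primeCompl Ap Q₀,
    ← IsLocalization.map_comap p.primeCompl Ap ((Q'.comap (algebraMap Bp L)).comap (algebraMap Ap Bp))]
  refine congrArg (Ideal.map (algebraMap A Ap)) (hQ.trans ?_)
  rw [Ideal.under_def, Ideal.comap_comap, Ideal.comap_comap]
  refine congrArg (fun f : A →+* L => Q'.comap f) ?_
  ext a
  rw [RingHom.comp_apply, RingHom.comp_apply, ← IsScalarTower.algebraMap_apply A Ap Bp,
    IsScalarTower.algebraMap_apply A B Bp, ← IsScalarTower.algebraMap_apply B Bp L,
    ← IsScalarTower.algebraMap_apply A B L]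

end Groth.Agent.FormalFibre48
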